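import Groth.Agent.RatMapExt.Basic
import Groth.Agent.DVRDom.Basic
import Mathlib.AlgebraicGeometry.Noetherian
import Mathlib.RingTheory.Ideal.MinimalPrime.Basic

/-! Tools for extending sections at a normal point: integral affine neighbourhoods, discrete valuation
rings centred at a point, gluing two sections, graph of a section along a curve. -/

set_option autoImplicit false

namespace Groth.Agent.RatMapExt

open CategoryTheory CategoryTheory.Limits AlgebraicGeometry TopologicalSpace

universe u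

variable {X Y S : Scheme.{u}}

/-- A point with domain stalk of a locally Noetherian scheme has an integral affine neighbourhood
inside any given neighbourhood. -/
theorem exists_affine_domain_nhd [IsLocallyNoetherian X] (x : X) [IsDomain ↑(X.presheaf.stalk x)]
    (O : X.Opens) (hxO : x ∈ O) :
    ∃ W : X.Opens, IsAffineOpen W ∧ IsDomain Γ(X, W) ∧ x ∈ W ∧ W ≤ O := by
  classical
  obtain ⟨W₀, hW₀, hxW₀, hW₀O⟩ := exists_isAffineOpen_mem_and_subset (x := x) (U := O) hxO
  haveI : IsNoetherianRing Γ(X, W₀) := IsLocallyNoetherian.component_noetherian ⟨W₀, hW₀⟩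
  letI := TopCat.Presheaf.algebra_section_stalk X.presheaf (⟨x, hxW₀⟩ : W₀)
  set p := hW₀.primeIdealOf ⟨x, hxW₀⟩
  haveI : IsLocalization.AtPrime (X.presheaf.stalk x) p.asIdeal := hW₀.isLocalization_stalk ⟨x, hxW₀⟩
  let q := RingHom.ker (algebraMap Γ(X, W₀) (X.presheaf.stalk x))
  haveI : q.IsPrime := RingHom.ker_isPrime _
  obtain ⟨G, hG⟩ := IsNoetherian.noetherian (R := Γ(X, W₀)) q
  have hex : ∀ a ∈ q, ∃ t ∉ p.asIdeal, t * a = 0 := fun a ha => by
    obtain ⟨⟨t, ht⟩, hta⟩ :=
      (IsLocalization.map_eq_zero_iff p.asIdeal.primeCompl (X.presheaf.stalk x) a).mp ha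
    exact ⟨t, ht, hta⟩
  choose t ht hta using hex
  have hGq : ∀ a ∈ G, a ∈ q := fun a ha => hG ▸ Submodule.subset_span ha
  let T := ∏ a ∈ G.attach, t a.1 (hGq a.1 a.2)
  have hTp : T ∉ p.asIdeal := show T ∈ p.asIdeal.primeCompl from prod_mem fun a _ => ht _ _
  have hTq : ∀ a ∈ q, T * a = 0 := by
    intro a ha
    have : q ≤ LinearMap.ker (LinearMap.lsmul Γ(X, W₀) Γ(X, W₀) T) := by
      rw [← hG, Submodule.span_le]
      intro g hg
      show T * g = 0
      simp only [T]
      rw [← Finset.prod_erase_mul _ _ (Finset.mem_attach G ⟨g, hg⟩), mul_assoc, hta, mul_zero]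
    exact this ha
  have hTq' : T ∉ q := fun h => by
    have hu : IsUnit (algebraMap Γ(X, W₀) (X.presheaf.stalk x) T) :=
      IsLocalization.map_units _ (⟨T, hTp⟩ : p.asIdeal.primeCompl)
    rw [RingHom.mem_ker.mp h] at hu
    exact not_isUnit_zero hu
  refine ⟨X.basicOpen T, hW₀.basicOpen T, ?_, ?_, (X.basicOpen_le T).trans hW₀O⟩
  · letI := (X.presheaf.map (homOfLE (X.basicOpen_le T)).op).hom.toAlgebra
    haveI : IsLocalization.Away T Γ(X, X.basicOpen T) := hW₀.isLocalization_basicOpen T
    have hzero : ∀ a, algebraMap Γ(X, W₀) Γ(X, X.basicOpen T) a = 0 ↔ a ∈ q := by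
      intro a
      rw [IsLocalization.map_eq_zero_iff (Submonoid.powers T)]
      constructor
      · rintro ⟨⟨_, n, rfl⟩, hna⟩
        rcases (‹q.IsPrime›).mem_or_mem (show T ^ n * a ∈ q from hna ▸ q.zero_mem) with h | h
        · exact absurd ((‹q.IsPrime›).mem_of_pow_mem n h) hTq'
        · exact h
      · exact fun ha => ⟨⟨T, Submonoid.mem_powers T⟩, hTq a ha⟩
    haveI : Nontrivial Γ(X, X.basicOpen T) := nontrivial_of_ne _ _
      (fun h : algebraMap Γ(X, W₀) Γ(X, X.basicOpen T) T = 0 => hTq' ((hzero T).mp h))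
    haveI : NoZeroDivisors Γ(X, X.basicOpen T) := ⟨fun {a b} hab => by
      obtain ⟨a, s, rfl⟩ := IsLocalization.exists_mk'_eq (Submonoid.powers T) a
      obtain ⟨b, s', rfl⟩ := IsLocalization.exists_mk'_eq (Submonoid.powers T) b
      rw [← IsLocalization.mk'_mul, IsLocalization.mk'_eq_zero_iff] at hab
      obtain ⟨⟨_, n, rfl⟩, hn⟩ := hab
      have hq : a * b ∈ q := ((‹q.IsPrime›).mem_or_mem (show T ^ n * (a * b) ∈ q from hn ▸ q.zero_mem)).resolve_left
        fun h => hTq' ((‹q.IsPrime›).mem_of_pow_mem n h)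
      exact ((‹q.IsPrime›).mem_or_mem hq).imp
        (fun h => (IsLocalization.mk'_eq_zero_iff _ _).mpr ⟨⟨T, Submonoid.mem_powers T⟩, hTq a h⟩)
        (fun h => (IsLocalization.mk'_eq_zero_iff _ _).mpr ⟨⟨T, Submonoid.mem_powers T⟩, hTq b h⟩)⟩
    exact NoZeroDivisors.to_isDomain _
  · have : x ∈ hW₀.fromSpec ''ᵁ PrimeSpectrum.basicOpen T :=
      ⟨p, hTp, hW₀.fromSpec_primeIdealOf ⟨x, hxW₀⟩⟩
    rwa [hW₀.fromSpec_image_basicOpen] at this

theorem closedPoint_preimage_eq_top {R : Type u} [CommRing R] [IsLocalRing R]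
    (O : (Spec (CommRingCat.of R)).Opens) (h : IsLocalRing.closedPoint R ∈ O) : O = ⊤ :=
  eq_top_iff.mpr fun _ _ => (IsLocalRing.specializes_closedPoint _).mem_open O.2 h

/-- A morphism from the spectrum of a local ring factors through any open containing the image of the
closed point. -/
theorem range_subset_of_closedPoint {R : Type u} [CommRing R] [IsLocalRing R]
    (u : Spec (CommRingCat.of R) ⟶ X) (O : X.Opens) (h : u (IsLocalRing.closedPoint R) ∈ O) :
    Set.range u ⊆ O := by
  rintro _ ⟨w, rfl⟩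
  exact ((IsLocalRing.specializes_closedPoint w).map u.continuous).mem_open O.2 h

/-- A discrete valuation ring centred at a non-generic point of an integral Noetherian affine open. -/
theorem exists_dvr_centred [IsLocallyNoetherian X] {W : X.Opens} (hW : IsAffineOpen W)
    [IsDomain Γ(X, W)] (x : X) (hxW : x ∈ W) (U : X.Opens) (hUW : ((U ⊓ W : X.Opens) : Set X).Nonempty)
    (hxU : x ∉ U) :
    ∃ (R : Type u) (_ : CommRing R) (_ : IsDomain R) (_ : IsDiscreteValuationRing R)
      (u : Spec (CommRingCat.of R) ⟶ X) (ub : Spec (CommRingCat.of (FractionRing R)) ⟶ (U : Scheme.{u})),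
      u (IsLocalRing.closedPoint R) = x ∧
        ub ≫ U.ι = Spec.map (CommRingCat.ofHom (algebraMap R (FractionRing R))) ≫ u := by
  haveI : IsNoetherianRing Γ(X, W) := IsLocallyNoetherian.component_noetherian ⟨W, hW⟩
  set A := Γ(X, W)
  let K := FractionRing A
  set p := hW.primeIdealOf ⟨x, hxW⟩
  have hp : hW.fromSpec p = x := hW.fromSpec_primeIdealOf ⟨x, hxW⟩
  let bot : Spec A := ⟨⊥, Ideal.isPrime_bot⟩
  have hbotU : hW.fromSpec bot ∈ U := by
    obtain ⟨w, hwU, hwW⟩ := hUW
    obtain ⟨w, rfl⟩ := hW.range_fromSpec.ge hwW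
    refine (Specializes.map ?_ hW.fromSpec.continuous).mem_open U.2 hwU
    exact (PrimeSpectrum.le_iff_specializes bot w).mp bot_le
  letI : Algebra (Localization.AtPrime p.asIdeal) K :=
    (IsLocalization.lift (M := p.asIdeal.primeCompl) (g := algebraMap A K)
    fun y => isUnit_iff_ne_zero.mpr fun h => y.2 (by
      rw [show (y : A) = 0 from IsFractionRing.injective A K (h.trans (map_zero _).symm)]
      exact p.asIdeal.zero_mem)).toAlgebra
  haveI : IsScalarTower A (Localization.AtPrime p.asIdeal) K :=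
    IsScalarTower.of_algebraMap_eq fun b => (IsLocalization.lift_eq _ b).symm
  haveI : IsDomain (Localization.AtPrime p.asIdeal) := IsLocalization.isDomain_of_atPrime _ p.asIdeal
  haveI : IsFractionRing (Localization.AtPrime p.asIdeal) K :=
    IsFractionRing.isFractionRing_of_isDomain_of_isLocalization p.asIdeal.primeCompl _ K
  have hA : ¬ IsField (Localization.AtPrime p.asIdeal) := by
    rw [IsLocalRing.isField_iff_maximalIdeal_eq]
    intro h
    refine hxU ?_
    have hpb : p.asIdeal = ⊥ := by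
      rw [eq_bot_iff]
      intro a ha
      have hm : algebraMap A (Localization.AtPrime p.asIdeal) a ∈ IsLocalRing.maximalIdeal _ :=
        (IsLocalization.AtPrime.to_map_mem_maximal_iff _ p.asIdeal a).mpr ha
      rw [h, Ideal.mem_bot] at hm
      exact IsLocalization.injective _ p.asIdeal.primeCompl_le_nonZeroDivisors (hm.trans (map_zero _).symm)
    have : p = bot := PrimeSpectrum.ext hpb
    rw [← hp, this]
    exact hbotU
  obtain ⟨R, hR, hAR, hmR⟩ := DVRDom.exists_dvr_dominating (Localization.AtPrime p.asIdeal) hA K K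
    (IntermediateField.fg_top_iff.mpr inferInstance)
  let κ : A →+* R := (algebraMap A K).codRestrict R.toSubring fun a => by
    rw [IsScalarTower.algebraMap_apply A (Localization.AtPrime p.asIdeal) K]; exact hAR _
  let u := Spec.map (CommRingCat.ofHom κ) ≫ hW.fromSpec
  have hcomap : (IsLocalRing.maximalIdeal R).comap κ = p.asIdeal := by
    ext a
    rw [Ideal.mem_comap, R.valuation_lt_one_iff]
    show R.valuation (algebraMap A K a) < 1 ↔ _
    rw [IsScalarTower.algebraMap_apply A (Localization.AtPrime p.asIdeal) K]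
    constructor
    · intro hlt
      by_contra ha
      obtain ⟨v, hv⟩ : ∃ v, algebraMap A (Localization.AtPrime p.asIdeal) a * v = 1 :=
        (IsLocalization.map_units (Localization.AtPrime p.asIdeal) (⟨a, ha⟩ : p.asIdeal.primeCompl)).exists_right_inv
      have := mul_lt_one_of_lt_of_le hlt ((R.valuation_le_one_iff _).mpr (hAR v))
      rw [← map_mul, ← map_mul, hv, map_one, map_one] at this
      exact this.false
    · exact fun ha => hmR _ ((IsLocalization.AtPrime.to_map_mem_maximal_iff _ p.asIdeal a).mpr ha)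
  let gen := Spec.map (CommRingCat.ofHom (algebraMap R (FractionRing R))) ≫ u
  have hgen : Set.range gen ⊆ (U : Set X) := by
    rintro _ ⟨w, rfl⟩
    show hW.fromSpec _ ∈ U
    suffices hb : Ideal.comap κ (Ideal.comap (algebraMap R (FractionRing R)) w.asIdeal) = ⊥ by
      convert hbotU using 2
      exact PrimeSpectrum.ext hb
    rw [(eq_bot_or_eq_top w.asIdeal).resolve_right w.isPrime.ne_top,
      show Ideal.comap (algebraMap R (FractionRing R)) ⊥ = ⊥ from
        (RingHom.injective_iff_ker_eq_bot _).mp (IsFractionRing.injective R (FractionRing R))]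
    exact (RingHom.injective_iff_ker_eq_bot κ).mp fun a b h => IsFractionRing.injective A K (congrArg Subtype.val h)
  refine ⟨R, inferInstance, inferInstance, hR, u, IsOpenImmersion.lift U.ι gen (by simpa using hgen),
    ?_, IsOpenImmersion.lift_fac _ _ _⟩
  show hW.fromSpec _ = x
  rw [← hp]
  exact congrArg _ (PrimeSpectrum.ext hcomap)

/-- Two compatible morphisms glue on the union of two opens. -/
theorem exists_glue (U V : X.Opens) (a : (U : Scheme.{u}) ⟶ Y) (b : (V : Scheme.{u}) ⟶ Y)
    (hab : X.homOfLE (inf_le_right : U ⊓ V ≤ V) ≫ b = X.homOfLE (inf_le_left : U ⊓ V ≤ U) ≫ a) :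
    ∃ (W : X.Opens) (hU : U ≤ W) (hV : V ≤ W) (c : (W : Scheme.{u}) ⟶ Y),
      W = U ⊔ V ∧ X.homOfLE hU ≫ c = a ∧ X.homOfLE hV ≫ c = b ∧
      ∀ {Z : Scheme.{u}} (q : Y ⟶ Z) (r : X ⟶ Z), a ≫ q = U.ι ≫ r → b ≫ q = V.ι ≫ r →
        c ≫ q = W.ι ≫ r := by
  let T : Bool → X.Opens := fun t => match t with | true => U | false => V
  let f : ∀ t, (T t : Scheme.{u}) ⟶ Y := fun t => match t with | true => a | false => b
  have key : ∀ (A B : X.Opens) (α : (A : Scheme.{u}) ⟶ Y) (β : (B : Scheme.{u}) ⟶ Y) (C : X.Opens)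
      (hA : A ≤ C) (hB : B ≤ C),
      X.homOfLE (inf_le_left : A ⊓ B ≤ A) ≫ α = X.homOfLE (inf_le_right : A ⊓ B ≤ B) ≫ β →
      pullback.fst (X.homOfLE hA) (X.homOfLE hB) ≫ α = pullback.snd (X.homOfLE hA) (X.homOfLE hB) ≫ β := by
    intro A B α β C hA hB h
    let l : pullback (X.homOfLE hA) (X.homOfLE hB) ⟶ (A ⊓ B : X.Opens) :=
      IsOpenImmersion.lift (A ⊓ B).ι (pullback.fst (X.homOfLE hA) (X.homOfLE hB) ≫ A.ι) (by
        rintro _ ⟨w, rfl⟩
        rw [Scheme.Opens.range_ι]
        refine ⟨(pullback.fst (X.homOfLE hA) (X.homOfLE hB) w).2, ?_⟩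
        rw [← X.homOfLE_ι hA, pullback.condition_assoc, X.homOfLE_ι]
        exact (pullback.snd (X.homOfLE hA) (X.homOfLE hB) w).2)
    have h1 : l ≫ X.homOfLE inf_le_left = pullback.fst _ _ := by
      rw [← cancel_mono A.ι, Category.assoc, X.homOfLE_ι, IsOpenImmersion.lift_fac]
    have h2 : l ≫ X.homOfLE inf_le_right = pullback.snd (X.homOfLE hA) (X.homOfLE hB) := by
      rw [← cancel_mono B.ι, Category.assoc, X.homOfLE_ι, IsOpenImmersion.lift_fac,
        ← X.homOfLE_ι hA, pullback.condition_assoc, X.homOfLE_ι]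
    rw [← h1, ← h2, Category.assoc, Category.assoc, h]
  have hf : ∀ s t, pullback.fst ((Scheme.Opens.iSupOpenCover T).f s) ((Scheme.Opens.iSupOpenCover T).f t) ≫ f s =
      pullback.snd _ _ ≫ f t := by
    intro s t
    refine key (T s) (T t) (f s) (f t) _ (le_iSup T s) (le_iSup T t) ?_
    rcases s with _ | _ <;> rcases t with _ | _
    · rfl
    · show X.homOfLE (inf_le_left : V ⊓ U ≤ V) ≫ b = X.homOfLE (inf_le_right : V ⊓ U ≤ U) ≫ a
      have hle : V ⊓ U ≤ U ⊓ V := by rw [inf_comm]
      rw [← X.homOfLE_homOfLE hle inf_le_right, Category.assoc, hab, Scheme.homOfLE_homOfLE_assoc]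
    · exact hab.symm
    · rfl
  refine ⟨⨆ t, T t, le_iSup T true, le_iSup T false,
    (Scheme.Opens.iSupOpenCover T).glueMorphisms f hf, ?_, ?_, ?_, ?_⟩
  · rw [iSup_bool_eq]
  · exact (Scheme.Opens.iSupOpenCover T).ι_glueMorphisms f hf true
  · exact (Scheme.Opens.iSupOpenCover T).ι_glueMorphisms f hf false
  · intro Z q r hq hq'
    refine (Scheme.Opens.iSupOpenCover T).hom_ext _ _ fun t => ?_
    rw [← Category.assoc, (Scheme.Opens.iSupOpenCover T).ι_glueMorphisms f hf t]
    show f t ≫ q = X.homOfLE (le_iSup T t) ≫ (⨆ t, T t : X.Opens).ι ≫ r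
    rw [Scheme.homOfLE_ι_assoc]
    cases t
    exacts [hq', hq]

/-- The graph of a section, evaluated along a curve whose generic point lies in the domain of the
section, lies in the closure of the graph. -/
theorem mem_closure_graph (pX : X ⟶ S) (pY : Y ⟶ S) (U : X.Opens) (h : (U : Scheme.{u}) ⟶ Y)
    (hh : U.ι ≫ pX = h ≫ pY) {R : Type u} [CommRing R] [IsDomain R] [IsLocalRing R]
    (u : Spec (CommRingCat.of R) ⟶ X)
    (ub : Spec (CommRingCat.of (FractionRing R)) ⟶ (U : Scheme.{u}))
    (hub : ub ≫ U.ι = Spec.map (CommRingCat.ofHom (algebraMap R (FractionRing R))) ≫ u)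
    (h₁ : Spec (CommRingCat.of R) ⟶ Y) (hh₁ : u ≫ pX = h₁ ≫ pY)
    (hgen : Spec.map (CommRingCat.ofHom (algebraMap R (FractionRing R))) ≫ h₁ = ub ≫ h) :
    pullback.lift u h₁ hh₁ (IsLocalRing.closedPoint R) ∈
      closure (Set.range (pullback.lift U.ι h hh)) := by
  have hj : Spec.map (CommRingCat.ofHom (algebraMap R (FractionRing R))) ≫ pullback.lift u h₁ hh₁ =
      ub ≫ pullback.lift U.ι h hh := by
    apply pullback.hom_ext
    · simp only [Category.assoc, pullback.lift_fst, hub]
    · simp only [Category.assoc, pullback.lift_snd, hgen]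
  let w := Spec.map (CommRingCat.ofHom (algebraMap R (FractionRing R)))
    (default : Spec (CommRingCat.of (FractionRing R)))
  have hsp : w ⤳ IsLocalRing.closedPoint R := IsLocalRing.specializes_closedPoint _
  refine closure_mono ?_ (hsp.map (pullback.lift u h₁ hh₁).continuous).mem_closure
  rw [Set.singleton_subset_iff]
  refine ⟨ub default, ?_⟩
  rw [← Scheme.Hom.comp_apply, ← hj]
  rfl

end Groth.Agent.RatMapExt
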