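import Groth.Agent.RatMapExt.Sections

/-! Valuative criterion for a section over a dense open to extend to a normal point with prescribed
value. -/

set_option autoImplicit false

namespace Groth.Agent.RatMapExt

open CategoryTheory CategoryTheory.Limits AlgebraicGeometry TopologicalSpace

universe u

variable {X Y S : Scheme.{u}}

/-- In a sober space, a point adherent to a locally closed set inside a Noetherian open is a
specialization of a point of that set. -/
theorem exists_specializes_of_mem_closure_inter {T : Type*} [TopologicalSpace T] [QuasiSober T]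
    {s O F : Set T} (hs : IsOpen s) [NoetherianSpace s] (hO : IsOpen O) (hF : IsClosed F) {x : T}
    (hxs : x ∈ s) (hx : x ∈ closure (O ∩ F)) : ∃ ζ ∈ O ∩ F, ζ ⤳ x := by
  classical
  have hx' : (⟨x, hxs⟩ : s) ∈ closure (Subtype.val ⁻¹' (O ∩ F)) :=
    (hs.isOpenMap_subtype_val.preimage_closure_eq_closure_preimage continuous_subtype_val _).subset hx
  set D : Set s := Subtype.val ⁻¹' (O ∩ F) with hD
  obtain ⟨S, hSfin, hSc, hSi, hSeq⟩ :=
    NoetherianSpace.exists_finite_set_isClosed_irreducible (isClosed_closure (s := D))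
  have : (⟨x, hxs⟩ : s) ∈ closure (⋃ Z ∈ S, Z ∩ D) := by
    refine closure_mono ?_ hx'
    intro d hd
    obtain ⟨Z, hZ, hdZ⟩ := hSeq.subset (subset_closure hd)
    exact Set.mem_biUnion hZ ⟨hdZ, hd⟩
  rw [hSfin.closure_biUnion] at this
  simp only [Set.mem_iUnion] at this
  obtain ⟨Z, hZ, hxZ⟩ := this
  obtain ⟨d, hd⟩ := closure_nonempty_iff.mp ⟨_, hxZ⟩
  haveI : QuasiSober s := hs.isOpenEmbedding_subtypeVal.quasiSober
  have hgen := (hSi Z hZ).isGenericPoint_genericPoint (hSc Z hZ)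
  refine ⟨((hSi Z hZ).genericPoint : s), ⟨?_, ?_⟩, ?_⟩
  · exact (hgen.mem_open_set_iff (hO.preimage continuous_subtype_val)).mpr ⟨d, hd.1, hd.2.1⟩
  · have : closure D ⊆ Subtype.val ⁻¹' F :=
      closure_minimal (fun _ h => h.2) (hF.preimage continuous_subtype_val)
    exact this (hSeq.symm.subset ⟨Z, hZ, hgen.mem⟩)
  · exact (hgen.specializes (closure_minimal Set.inter_subset_left (hSc Z hZ) hxZ)).map continuous_subtype_val

/-- A discrete valuation ring realizing a non-trivial specialization in a locally Noetherian scheme. -/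
theorem exists_dvr_of_specializes [IsLocallyNoetherian X] {w x : X} (hwx : w ⤳ x) (hne : w ≠ x) :
    ∃ (R : Type u) (_ : CommRing R) (_ : IsDomain R) (_ : IsDiscreteValuationRing R)
      (u : Spec (CommRingCat.of R) ⟶ X),
      u (IsLocalRing.closedPoint R) = x ∧
        ∀ t, (Spec.map (CommRingCat.ofHom (algebraMap R (FractionRing R))) ≫ u) t = w := by
  obtain ⟨W, hW, hxW, -⟩ := exists_isAffineOpen_mem_and_subset (x := x) (U := ⊤) trivial
  haveI : IsNoetherianRing Γ(X, W) := IsLocallyNoetherian.component_noetherian ⟨W, hW⟩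
  obtain ⟨q, rfl⟩ := hW.range_fromSpec.ge (hwx.mem_open W.2 hxW)
  obtain ⟨p, rfl⟩ := hW.range_fromSpec.ge hxW
  have hqp : q.asIdeal ≤ p.asIdeal := (PrimeSpectrum.le_iff_specializes q p).mpr
    ((hW.fromSpec.isOpenEmbedding.isInducing.specializes_iff).mp hwx)
  have hqpne : q.asIdeal ≠ p.asIdeal := fun h => hne (by rw [PrimeSpectrum.ext h])
  let π := Ideal.Quotient.mk q.asIdeal
  let pb := p.asIdeal.map π
  haveI : pb.IsPrime := Ideal.map_isPrime_of_surjective Ideal.Quotient.mk_surjective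
    (by rw [Ideal.mk_ker]; exact hqp)
  have hpb : pb.comap π = p.asIdeal := by
    rw [Ideal.comap_map_of_surjective _ Ideal.Quotient.mk_surjective, ← RingHom.ker_eq_comap_bot,
      Ideal.mk_ker]
    exact sup_eq_left.mpr hqp
  let A := Γ(X, W) ⧸ q.asIdeal
  let D := Localization.AtPrime pb
  haveI : IsDomain D := IsLocalization.isDomain_of_atPrime _ pb
  have hD : ¬ IsField D := by
    rw [IsLocalRing.isField_iff_maximalIdeal_eq]
    intro h
    refine hqpne (le_antisymm hqp fun a ha => ?_)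
    have hm : algebraMap A D (π a) ∈ IsLocalRing.maximalIdeal D :=
      (IsLocalization.AtPrime.to_map_mem_maximal_iff D pb _).mpr (Ideal.mem_map_of_mem π ha)
    rw [h, Ideal.mem_bot] at hm
    exact Ideal.Quotient.eq_zero_iff_mem.mp
      (IsLocalization.injective D pb.primeCompl_le_nonZeroDivisors (hm.trans (map_zero _).symm))
  obtain ⟨R, hR, hDR, hmR⟩ := DVRDom.exists_dvr_dominating D hD (FractionRing D) (FractionRing D)
    (IntermediateField.fg_top_iff.mpr inferInstance)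
  let κ : Γ(X, W) →+* R := ((algebraMap D (FractionRing D)).comp ((algebraMap A D).comp π)).codRestrict
    R.toSubring fun a => hDR _
  refine ⟨R, inferInstance, inferInstance, hR, Spec.map (CommRingCat.ofHom κ) ≫ hW.fromSpec, ?_, fun t => ?_⟩
  · show hW.fromSpec _ = hW.fromSpec p
    congr 1
    refine PrimeSpectrum.ext ?_
    show (IsLocalRing.maximalIdeal R).comap κ = p.asIdeal
    ext a
    rw [Ideal.mem_comap, R.valuation_lt_one_iff, ← hpb, Ideal.mem_comap]
    show R.valuation (algebraMap D (FractionRing D) (algebraMap A D (π a))) < 1 ↔ _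
    constructor
    · intro hlt
      by_contra ha
      obtain ⟨v, hv⟩ : ∃ v, algebraMap A D (π a) * v = 1 :=
        (IsLocalization.map_units D (⟨π a, ha⟩ : pb.primeCompl)).exists_right_inv
      have := mul_lt_one_of_lt_of_le hlt ((R.valuation_le_one_iff _).mpr (hDR v))
      rw [← map_mul, ← map_mul, hv, map_one, map_one] at this
      exact this.false
    · exact fun ha => hmR _ ((IsLocalization.AtPrime.to_map_mem_maximal_iff D pb _).mpr ha)
  · show hW.fromSpec _ = hW.fromSpec q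
    congr 1
    refine PrimeSpectrum.ext ?_
    show Ideal.comap κ (Ideal.comap (algebraMap R (FractionRing R)) t.asIdeal) = q.asIdeal
    rw [(eq_bot_or_eq_top t.asIdeal).resolve_right t.isPrime.ne_top,
      show Ideal.comap (algebraMap R (FractionRing R)) ⊥ = ⊥ from
        (RingHom.injective_iff_ker_eq_bot _).mp (IsFractionRing.injective R (FractionRing R))]
    ext a
    rw [Ideal.mem_comap, Ideal.mem_bot, Subtype.ext_iff]
    show algebraMap D (FractionRing D) (algebraMap A D (π a)) = 0 ↔ _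
    rw [map_eq_zero_iff _ (IsFractionRing.injective D _),
      map_eq_zero_iff _ (IsLocalization.injective D pb.primeCompl_le_nonZeroDivisors),
      Ideal.Quotient.eq_zero_iff_mem]

/-- A point with trivial residue field extension is closed in its fibre. -/
theorem eq_of_specializes_of_residueFieldMap_surjective (q : Y ⟶ X) {y y' : Y}
    (hk : Function.Surjective (q.residueFieldMap y)) (hsp : y ⤳ y') (hb : q y' = q y) : y' = y := by
  let χ : Y.presheaf.stalk y' ⟶ Y.residueField y := Y.presheaf.stalkSpecializes hsp ≫ Y.residue y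
  have hsurj : Function.Surjective χ.hom := by
    intro c
    obtain ⟨a, rfl⟩ := hk c
    obtain ⟨b, rfl⟩ := Scheme.residue_surjective X (q y) a
    obtain ⟨b', rfl⟩ : ∃ b', X.presheaf.stalkSpecializes (hsp.map q.continuous) b' = b :=
      (ConcreteCategory.bijective_of_isIso
        (X.presheaf.stalkCongr (Inseparable.of_eq hb)).hom).surjective b
    refine ⟨q.stalkMap y' b', ?_⟩
    show Y.residue y (Y.presheaf.stalkSpecializes hsp (q.stalkMap y' b')) = _
    rw [← CommRingCat.comp_apply (q.stalkMap y'), ← Scheme.Hom.stalkSpecializes_stalkMap q y y' hsp]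
    exact congr($((Scheme.residue_residueFieldMap q y).symm).hom _)
  have hmax : (RingHom.ker χ.hom).IsMaximal := RingHom.ker_isMaximal_of_surjective _ hsurj
  have h2 : RingHom.ker χ.hom = IsLocalRing.maximalIdeal _ := IsLocalRing.eq_maximalIdeal hmax
  calc y' = Y.fromSpecStalk y' (IsLocalRing.closedPoint _) := (Scheme.fromSpecStalk_closedPoint).symm
    _ = Y.fromSpecStalk y' (Spec.map (Y.presheaf.stalkSpecializes hsp)
        (IsLocalRing.closedPoint (Y.presheaf.stalk y))) := by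
      congr 1
      refine PrimeSpectrum.ext ?_
      show IsLocalRing.maximalIdeal _ =
        Ideal.comap (Y.presheaf.stalkSpecializes hsp).hom (IsLocalRing.maximalIdeal _)
      rw [← h2]
      ext a
      exact IsLocalRing.residue_eq_zero_iff _
    _ = y := by
      rw [← Scheme.Hom.comp_apply, Scheme.SpecMap_stalkSpecializes_fromSpecStalk,
        Scheme.fromSpecStalk_closedPoint]

/-- A morphism from a field through a point in the image of a section factors through the section. -/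
theorem exists_lift_of_section (q : Y ⟶ X) (U : X.Opens) (h : (U : Scheme.{u}) ⟶ Y) (hh : h ≫ q = U.ι)
    {F : Type u} [Field F] (t : Spec (CommRingCat.of F) ⟶ Y) (η : U)
    (ht : t (IsLocalRing.closedPoint F) = h η) :
    ∃ t' : Spec (CommRingCat.of F) ⟶ U, t' ≫ h = t ∧ t' ≫ U.ι = t ≫ q := by
  obtain ⟨γ, φ, rfl⟩ : ∃ γ φ, Spec.map φ ≫ Y.fromSpecResidueField γ = t :=
    ⟨_, _, Scheme.descResidueField_stalkClosedPointTo_fromSpecResidueField F Y t⟩
  rw [Scheme.Hom.comp_apply, Scheme.fromSpecResidueField_apply] at ht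
  subst ht
  have hsurj : Function.Surjective (h.residueFieldMap η) := by
    intro c
    have e : (h ≫ q).residueFieldMap η = q.residueFieldMap (h η) ≫ h.residueFieldMap η :=
      Scheme.residueFieldMap_comp h q η
    have hs : Function.Surjective ((h ≫ q).residueFieldMap η) := by
      rw [hh]
      exact (ConcreteCategory.bijective_of_isIso (U.ι.residueFieldMap η)).surjective
    obtain ⟨a, ha⟩ := hs c
    rw [e] at ha
    exact ⟨_, ha⟩
  haveI : IsIso (h.residueFieldMap η) :=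
    (ConcreteCategory.isIso_iff_bijective _).mpr ⟨RingHom.injective _, hsurj⟩
  refine ⟨Spec.map (inv (h.residueFieldMap η) ≫ φ) ≫ (U : Scheme.{u}).fromSpecResidueField η, ?_, ?_⟩
  · rw [Category.assoc, ← h.SpecMap_residueFieldMap_fromSpecResidueField η, ← Spec.map_comp_assoc,
      IsIso.hom_inv_id_assoc]
  · rw [← hh]
    simp only [← Category.assoc]
    congr 1
    rw [Category.assoc, ← h.SpecMap_residueFieldMap_fromSpecResidueField η, ← Spec.map_comp_assoc,
      IsIso.hom_inv_id_assoc]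

/-- Two lifts to a separated open of a morphism from a domain spectrum which agree at the generic point. -/
theorem eq_of_generic_eq (q : Y ⟶ X) (Y0 : Y.Opens) [IsSeparated (Y0.ι ≫ q)] {R : Type u} [CommRing R]
    [IsDomain R] (a b : Spec (CommRingCat.of R) ⟶ Y) (ha : Set.range a ⊆ (Y0 : Set Y))
    (hb : Set.range b ⊆ (Y0 : Set Y)) (hq : a ≫ q = b ≫ q)
    (hgen : Spec.map (CommRingCat.ofHom (algebraMap R (FractionRing R))) ≫ a =
      Spec.map (CommRingCat.ofHom (algebraMap R (FractionRing R))) ≫ b) : a = b := by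
  let a' := IsOpenImmersion.lift Y0.ι a (by simpa using ha)
  let b' := IsOpenImmersion.lift Y0.ι b (by simpa using hb)
  have ha' : a' ≫ Y0.ι = a := IsOpenImmersion.lift_fac _ _ _
  have hb' : b' ≫ Y0.ι = b := IsOpenImmersion.lift_fac _ _ _
  haveI : IsDominant (Spec.map (CommRingCat.ofHom (algebraMap R (FractionRing R)))) := ⟨by
    show DenseRange (PrimeSpectrum.comap (algebraMap R (FractionRing R)))
    rw [PrimeSpectrum.denseRange_comap_iff_ker_le_nilRadical,
      (RingHom.injective_iff_ker_eq_bot _).mp (IsFractionRing.injective R (FractionRing R))]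
    exact bot_le⟩
  have : a' = b' := by
    refine ext_of_isDominant_of_isSeparated (Y0.ι ≫ q) ?_ (Spec.map (CommRingCat.ofHom (algebraMap R (FractionRing R)))) ?_
    · rw [reassoc_of% ha', reassoc_of% hb', hq]
    · rw [← cancel_mono Y0.ι, Category.assoc, Category.assoc, ha', hb', hgen]
  rw [← ha', ← hb', this]

set_option maxHeartbeats 1000000 in
theorem exists_extension_of_dvr [IsLocallyNoetherian X] (q : Y ⟶ X) [LocallyOfFiniteType q]
    (U : X.Opens) (hU : Dense (U : Set X)) (h : (U : Scheme.{u}) ⟶ Y) (hh : h ≫ q = U.ι) (x : X)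
    (hxU : x ∉ U) [IsDomain ↑(X.presheaf.stalk x)] (hx : IsIntegrallyClosed ↑(X.presheaf.stalk x))
    (y₀ : Y) (hy₀ : q y₀ = x) (hk : Function.Surjective (q.residueFieldMap y₀))
    (H : ∀ (R : Type u) [CommRing R] [IsDomain R] [IsDiscreteValuationRing R]
      (u : Spec (CommRingCat.of R) ⟶ X), u (IsLocalRing.closedPoint R) = x →
      ∀ ub : Spec (CommRingCat.of (FractionRing R)) ⟶ (U : Scheme.{u}),
        ub ≫ U.ι = Spec.map (CommRingCat.ofHom (algebraMap R (FractionRing R))) ≫ u →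
        ∃ h₁ : Spec (CommRingCat.of R) ⟶ Y, h₁ ≫ q = u ∧ h₁ (IsLocalRing.closedPoint R) = y₀ ∧
          Spec.map (CommRingCat.ofHom (algebraMap R (FractionRing R))) ≫ h₁ = ub ≫ h) :
    ∃ (U' : X.Opens) (hUU' : U ≤ U') (hxU' : x ∈ U') (h' : (U' : Scheme.{u}) ⟶ Y),
      h' ≫ q = U'.ι ∧ X.homOfLE hUU' ≫ h' = h ∧ h' ⟨x, hxU'⟩ = y₀ := by
  classical
  haveI : IsLocallyNoetherian Y := LocallyOfFiniteType.isLocallyNoetherian q
  obtain ⟨W, hW, hWd, hxW, -⟩ := exists_affine_domain_nhd x ⊤ trivial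
  have hUW : ((U ⊓ W : X.Opens) : Set X).Nonempty :=
    (hU.inter_open_nonempty W W.2 ⟨x, hxW⟩).mono fun w hw => ⟨hw.2, hw.1⟩
  obtain ⟨Y0, hY0, hyY0, -⟩ := exists_isAffineOpen_mem_and_subset (x := y₀) (U := ⊤) trivial
  haveI : IsAffine (Y0 : Scheme.{u}) := hY0
  haveI : IsSeparated (Y0.ι ≫ q) := by
    haveI : IsSeparated ((Y0.ι ≫ q) ≫ terminal.from X) := by
      rw [terminal.comp_from]; infer_instance
    exact IsSeparated.of_comp (Y0.ι ≫ q) (terminal.from X)
  -- generizations of `x` in `U` are sent into `Y0`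
  have hA : ∀ w : U, U.ι w ⤳ x → h w ∈ Y0 := by
    intro w hw
    obtain ⟨R, i1, i2, i3, u, hu, hgen⟩ := exists_dvr_of_specializes hw (fun e => hxU (e ▸ w.2))
    letI := i1; letI := i2; letI := i3
    let ub := IsOpenImmersion.lift U.ι (Spec.map (CommRingCat.ofHom (algebraMap R (FractionRing R))) ≫ u)
      (by rintro _ ⟨t, rfl⟩; rw [Scheme.Opens.range_ι, hgen t]; exact w.2)
    have hub : ub ≫ U.ι = _ := IsOpenImmersion.lift_fac _ _ _
    obtain ⟨h₁, -, hc, hh₁⟩ := H R u hu ub hub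
    let t : Spec (CommRingCat.of (FractionRing R)) := default
    have hbt : ub t = w := U.ι.isOpenEmbedding.injective (by rw [← Scheme.Hom.comp_apply, hub, hgen t])
    have : h w = h₁ (Spec.map (CommRingCat.ofHom (algebraMap R (FractionRing R))) t) := by
      rw [← Scheme.Hom.comp_apply, hh₁, Scheme.Hom.comp_apply, hbt]
    rw [this]
    exact range_subset_of_closedPoint h₁ Y0 (hc ▸ hyY0) ⟨_, rfl⟩
  let U0 : X.Opens := U.ι ''ᵁ (h ⁻¹ᵁ Y0)
  have hU0 : U0 ≤ U := U.ι_image_le _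
  have hmemU0 : ∀ w : U, U.ι w ∈ U0 ↔ h w ∈ Y0 := fun w =>
    ⟨fun ⟨w', hw', e⟩ => U.ι.isOpenEmbedding.injective e ▸ hw', fun hw => ⟨w, hw, rfl⟩⟩
  let h0 : (U0 : Scheme.{u}) ⟶ Y0 := IsOpenImmersion.lift Y0.ι (X.homOfLE hU0 ≫ h) (by
    rintro _ ⟨w, rfl⟩
    rw [Scheme.Opens.range_ι, Scheme.Hom.comp_apply]
    exact (hmemU0 _).mp (by rw [← Scheme.Hom.comp_apply, X.homOfLE_ι hU0]; exact w.2))
  have hh0 : h0 ≫ Y0.ι = X.homOfLE hU0 ≫ h := IsOpenImmersion.lift_fac _ _ _
  let q0 := Y0.ι ≫ q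
  have hh0q : U0.ι ≫ 𝟙 X = h0 ≫ q0 := by
    rw [Category.comp_id, reassoc_of% hh0, hh, X.homOfLE_ι]
  -- the generic point
  obtain ⟨η, hηx, hηgen⟩ : ∃ η : X, η ⤳ x ∧ ∀ w ∈ W, η ⤳ w := by
    let bot : Spec Γ(X, W) := ⟨⊥, Ideal.isPrime_bot⟩
    have : ∀ w ∈ W, hW.fromSpec bot ⤳ w := fun w hw => by
      obtain ⟨w, rfl⟩ := hW.range_fromSpec.ge hw
      exact ((PrimeSpectrum.le_iff_specializes bot w).mp bot_le).map hW.fromSpec.continuous
    exact ⟨_, this x hxW, this⟩
  have hηU : η ∈ U := by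
    obtain ⟨w, hwU, hwW⟩ := hUW
    exact (hηgen w hwW).mem_open U.2 hwU
  have hηU0 : η ∈ U0 := (hmemU0 ⟨η, hηU⟩).mpr (hA _ hηx)
  have hU0W : ((U0 ⊓ W : X.Opens) : Set X).Nonempty := ⟨η, hηU0, hηx.mem_open W.2 hxW⟩
  let γ : Y0 := h0 ⟨η, hηU0⟩
  have hηne : η ≠ x := fun e => hxU (e ▸ hηU)
  have hqγ : q0 γ = η := by
    show (h0 ≫ q0) _ = _
    rw [← hh0q, Category.comp_id]
    rfl
  let P := pullback (𝟙 X) q0
  let z := (inv (pullback.snd (𝟙 X) q0) : (Y0 : Scheme.{u}) ⟶ P) ⟨y₀, hyY0⟩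
  have hfst : ∀ p : ↥P, pullback.fst (𝟙 X) q0 p = q0 (pullback.snd (𝟙 X) q0 p) := fun p => by
    rw [← Scheme.Hom.comp_apply (pullback.snd _ _), ← pullback.condition, Category.comp_id]
  have hsndz : pullback.snd (𝟙 X) q0 z = ⟨y₀, hyY0⟩ := by
    show (inv (pullback.snd (𝟙 X) q0) ≫ pullback.snd (𝟙 X) q0) _ = _
    rw [IsIso.inv_hom_id]; rfl
  have hz : pullback.fst (𝟙 X) q0 z = x := by rw [hfst, hsndz]; exact hy₀
  -- `z` is adherent to the graph
  obtain ⟨R₀, i1, i2, i3, u₀, hu₀, hgen₀⟩ := exists_dvr_of_specializes hηx hηne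
  letI := i1; letI := i2; letI := i3
  let ub₀ := IsOpenImmersion.lift U0.ι (Spec.map (CommRingCat.ofHom (algebraMap R₀ (FractionRing R₀))) ≫ u₀)
      (by rintro _ ⟨t, rfl⟩; rw [Scheme.Opens.range_ι, hgen₀ t]; exact hηU0)
  have hub₀ : ub₀ ≫ U0.ι = _ := IsOpenImmersion.lift_fac _ _ _
  obtain ⟨h₁, hh₁q, hh₁c, hh₁g⟩ := H R₀ u₀ hu₀ (ub₀ ≫ X.homOfLE hU0)
    (by rw [Category.assoc, X.homOfLE_ι, hub₀])
  have hh₁r := range_subset_of_closedPoint h₁ Y0 (hh₁c ▸ hyY0)
  let h₁' := IsOpenImmersion.lift Y0.ι h₁ (by simpa using hh₁r)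
  have hh₁' : h₁' ≫ Y0.ι = h₁ := IsOpenImmersion.lift_fac _ _ _
  have hh₁q' : u₀ ≫ 𝟙 X = h₁' ≫ q0 := by rw [reassoc_of% hh₁', hh₁q, Category.comp_id]
  have hzΓ : z ∈ closure (Set.range (pullback.lift U0.ι h0 hh0q)) := by
    have := mem_closure_graph (𝟙 X) q0 U0 h0 hh0q u₀ ub₀ hub₀ h₁' hh₁q' (by
      rw [← cancel_mono Y0.ι, Category.assoc, Category.assoc, hh₁', hh0, hh₁g, Category.assoc])
    convert this
    apply (pullback.snd (𝟙 X) q0).homeomorph.injective
    show pullback.snd (𝟙 X) q0 z = pullback.snd (𝟙 X) q0 _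
    rw [hsndz, ← Scheme.Hom.comp_apply (pullback.lift _ _ _), pullback.lift_snd]
    apply Y0.ι.isOpenEmbedding.injective
    show y₀ = _
    rw [← Scheme.Hom.comp_apply, hh₁', hh₁c]
  -- isolated in the fibre
  have hγ : ∀ p ∈ closure (Set.range (pullback.lift U0.ι h0 hh0q)),
      pullback.fst (𝟙 X) q0 p = x → γ ⤳ pullback.snd (𝟙 X) q0 p := by
    intro p hp hpx
    set g := pullback.lift U0.ι h0 hh0q
    have hmem : p ∈ closure ((pullback.fst (𝟙 X) q0 ⁻¹ᵁ W : P.Opens) ∩ Set.range g) :=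
      (pullback.fst (𝟙 X) q0 ⁻¹ᵁ W).2.inter_closure ⟨show _ ∈ W from hpx ▸ hxW, hp⟩
    have hsub : ((pullback.fst (𝟙 X) q0 ⁻¹ᵁ W : P.Opens) : Set ↥P) ∩ Set.range g ⊆ closure {g ⟨η, hηU0⟩} := by
      rintro _ ⟨hyW, y, rfl⟩
      have hyW' : U0.ι y ∈ W := by
        have : pullback.fst (𝟙 X) q0 (g y) = U0.ι y := by rw [← Scheme.Hom.comp_apply, pullback.lift_fst]
        exact this ▸ hyW
      have hsp : (⟨η, hηU0⟩ : U0) ⤳ y := by
        exact U0.ι.isOpenEmbedding.isInducing.specializes_iff.mp (hηgen _ hyW')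
      exact specializes_iff_mem_closure.mp (hsp.map g.continuous)
    have hsp : g ⟨η, hηU0⟩ ⤳ p :=
      specializes_iff_mem_closure.mpr (closure_minimal hsub isClosed_closure hmem)
    have := hsp.map (pullback.snd (𝟙 X) q0).continuous
    rwa [← Scheme.Hom.comp_apply, pullback.lift_snd] at this
  have hiso : ∃ O : P.Opens, (O : Set ↥P) ∩ closure (Set.range (pullback.lift U0.ι h0 hh0q)) ∩
      (pullback.fst (𝟙 X) q0) ⁻¹' {x} = {z} := by
    let C : Set Y0 := closure {γ}
    let Fx : Set Y0 := closure {⟨y₀, hyY0⟩}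
    haveI : NoetherianSpace (Y0 : Scheme.{u}) := by
      haveI : IsNoetherianRing Γ(Y, Y0) := IsLocallyNoetherian.component_noetherian ⟨Y0, hY0⟩
      exact (noetherianSpace_iff_of_homeomorph hY0.isoSpec.hom.homeomorph.symm).mp inferInstance
    -- fibre points of `C` other than `y₀`
    let E : Set Y0 := (C ∩ q0 ⁻¹' closure {x}) ∩ ((q0 ⁻¹' (W : Set X)) \ Fx)
    have hE : (⟨y₀, hyY0⟩ : Y0) ∉ closure E := by
      intro hcl
      haveI : NoetherianSpace ↥(Set.univ : Set Y0) := by infer_instance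
      obtain ⟨y1, ⟨⟨hy1W, hy1F⟩, hy1C, hy1x⟩, hy1⟩ := exists_specializes_of_mem_closure_inter
        (s := Set.univ) (O := (q0 ⁻¹' (W : Set X)) \ Fx) (F := C ∩ q0 ⁻¹' closure {x}) isOpen_univ
        ((W.2.preimage q0.continuous).sdiff isClosed_closure)
        (isClosed_closure.inter (isClosed_closure.preimage q0.continuous)) trivial
        (by rwa [Set.inter_comm])
      have hq1 : q0 y1 = x := by
        have h1 : x ⤳ q0 y1 := specializes_iff_mem_closure.mpr hy1x
        have h2 : q0 y1 ⤳ x := by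
          have := hy1.map q0.continuous
          rwa [show q0 ⟨y₀, hyY0⟩ = x from hy₀] at this
        exact (h2.antisymm h1).eq
      have hγ1 : γ ⤳ y1 := specializes_iff_mem_closure.mpr hy1C
      have hne1 : γ ≠ y1 := fun e => hηne (by rw [← hqγ, e, hq1])
      obtain ⟨R, j1, j2, j3, u', hu', hgen'⟩ := exists_dvr_of_specializes
        (hγ1.map Y0.ι.continuous) (fun e => hne1 (Y0.ι.isOpenEmbedding.injective e))
      letI := j1; letI := j2; letI := j3
      set j := Spec.map (CommRingCat.ofHom (algebraMap R (FractionRing R)))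
      have hγh : Y0.ι γ = h ⟨η, hηU⟩ := by
        show (h0 ≫ Y0.ι) _ = _
        rw [hh0, Scheme.Hom.comp_apply]
        congr 1
        exact U.ι.isOpenEmbedding.injective
          (by rw [← Scheme.Hom.comp_apply, X.homOfLE_ι hU0]; rfl)
      obtain ⟨t', ht'h, ht'q⟩ := exists_lift_of_section q U h hh (j ≫ u') ⟨η, hηU⟩
        ((hgen' _).trans hγh)
      obtain ⟨k₁, hk₁q, hk₁c, hk₁g⟩ := H R (u' ≫ q)
        (by rw [Scheme.Hom.comp_apply, hu']; exact hq1) t' (by rw [ht'q, Category.assoc])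
      have : k₁ = u' := eq_of_generic_eq q Y0 k₁ u'
        (range_subset_of_closedPoint k₁ Y0 (hk₁c ▸ hyY0))
        (range_subset_of_closedPoint u' Y0 (hu' ▸ y1.2)) hk₁q (hk₁g.trans ht'h)
      refine hy1F ?_
      have he : Y0.ι y1 = y₀ := by rw [← hu', ← this, hk₁c]
      have : y1 = ⟨y₀, hyY0⟩ := Subtype.ext he
      rw [this]
      exact subset_closure rfl
    refine ⟨pullback.fst (𝟙 X) q0 ⁻¹ᵁ W ⊓ pullback.snd (𝟙 X) q0 ⁻¹ᵁ ⟨(closure E)ᶜ, isClosed_closure.isOpen_compl⟩, ?_⟩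
    refine Set.Subset.antisymm ?_ ?_
    · rintro p ⟨⟨⟨hpW, hpE⟩, hpΓ⟩, hpx⟩
      replace hpx : pullback.fst (𝟙 X) q0 p = x := hpx
      by_contra hne'
      apply hpE
      apply subset_closure
      refine ⟨⟨specializes_iff_mem_closure.mp (hγ p hpΓ hpx), ?_⟩, ?_, ?_⟩
      · show q0 _ ∈ closure {x}
        rw [← hfst, hpx]; exact subset_closure rfl
      · show q0 _ ∈ W
        rw [← hfst, hpx]; exact hxW
      · intro hF
        apply hne'
        apply (pullback.snd (𝟙 X) q0).homeomorph.injective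
        show pullback.snd (𝟙 X) q0 p = pullback.snd (𝟙 X) q0 z
        rw [hsndz]
        have hsp := (specializes_iff_mem_closure.mpr hF).map Y0.ι.continuous
        apply Y0.ι.isOpenEmbedding.injective
        refine eq_of_specializes_of_residueFieldMap_surjective q hk hsp ?_
        show (Y0.ι ≫ q) _ = _
        rw [← hfst, hpx]
        exact hy₀.symm
    · rintro p rfl
      exact ⟨⟨⟨show _ ∈ W from hz ▸ hxW, show pullback.snd (𝟙 X) q0 z ∉ closure E from hsndz ▸ hE⟩, hzΓ⟩, hz⟩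
  obtain ⟨V, v, hxV, hVW, hv, hv'⟩ := exists_extension_of_isolated (𝟙 X) q0 U0 h0 hh0q hW hU0W x hxW hx
    z hz hzΓ hiso
  -- remove the points of `U` near `x` sent outside `Y0`
  set Dset : Set X := ((U ⊓ W : X.Opens) : Set X) ∩ (U0 : Set X)ᶜ
  have hxD : x ∉ closure Dset := by
    haveI : NoetherianSpace ↥(W : Set X) := by
      haveI : IsNoetherianRing Γ(X, W) := IsLocallyNoetherian.component_noetherian ⟨W, hW⟩
      exact (noetherianSpace_iff_of_homeomorph hW.isoSpec.hom.homeomorph.symm).mp inferInstance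
    intro hcl
    obtain ⟨w, ⟨⟨hwU, hwW⟩, hw0⟩, hwx⟩ := exists_specializes_of_mem_closure_inter W.2
      (U ⊓ W : X.Opens).2 (isClosed_compl_iff.mpr U0.2) hxW hcl
    exact hw0 ((hmemU0 ⟨w, hwU⟩).mpr (hA _ hwx))
  let V' : X.Opens := V ⊓ ⟨(closure Dset)ᶜ, isClosed_closure.isOpen_compl⟩
  let v' : (V' : Scheme.{u}) ⟶ Y := X.homOfLE inf_le_left ≫ v ≫ Y0.ι
  have hle : U ⊓ V' ≤ U0 ⊓ V := by
    intro w hw
    refine ⟨?_, hw.2.1⟩
    by_contra hw0
    exact hw.2.2 (subset_closure ⟨⟨hw.1, hVW hw.2.1⟩, hw0⟩)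
  have hagree : X.homOfLE (inf_le_right : U ⊓ V' ≤ V') ≫ v' = X.homOfLE (inf_le_left : U ⊓ V' ≤ U) ≫ h := by
    have := congrArg (fun m => X.homOfLE hle ≫ m ≫ Y0.ι) hv'
    simp only [Category.assoc, hh0, Scheme.homOfLE_homOfLE_assoc] at this
    simp only [v', Scheme.homOfLE_homOfLE_assoc]
    exact this
  obtain ⟨U', hUU', hVU', c, -, hc, hcv, hcq⟩ := exists_glue U V' h v' hagree
  have hcqι : c ≫ q = U'.ι := by
    have := hcq q (𝟙 X) (by rw [hh, Category.comp_id]) (by
      show (X.homOfLE _ ≫ v ≫ Y0.ι) ≫ q = _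
      rw [Category.assoc, Category.assoc]
      show X.homOfLE _ ≫ v ≫ q0 = _
      rw [hv, Scheme.homOfLE_ι_assoc])
    simpa using this
  have hxV' : x ∈ V' := ⟨hxV, hxD⟩
  refine ⟨U', hUU', hVU' hxV', c, hcqι, hc, ?_⟩
  have hrange := range_subset_of_closedPoint u₀ V' (hu₀ ▸ hxV')
  let l := IsOpenImmersion.lift V'.ι u₀ (by simpa using hrange)
  have hl : l ≫ V'.ι = u₀ := IsOpenImmersion.lift_fac _ _ _
  have hlc : l (IsLocalRing.closedPoint R₀) = ⟨x, hxV'⟩ :=
    V'.ι.isOpenEmbedding.injective (by rw [← Scheme.Hom.comp_apply, hl]; exact hu₀)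
  have key : l ≫ v' = h₁ := by
    refine eq_of_generic_eq q Y0 _ _ ?_ hh₁r ?_ ?_
    · rintro _ ⟨w, rfl⟩
      exact ((X.homOfLE (inf_le_left : V' ≤ V) ≫ v) (l w)).2
    · have hv'q : v' ≫ q = V'.ι := by
        rw [← hcv, Category.assoc, hcqι, X.homOfLE_ι]
      rw [Category.assoc, hv'q, hl, hh₁q]
    · rw [hh₁g]
      have hfac : Spec.map (CommRingCat.ofHom (algebraMap R₀ (FractionRing R₀))) ≫ l ≫ X.homOfLE hVU' =
          (ub₀ ≫ X.homOfLE hU0) ≫ X.homOfLE hUU' := by
        rw [← cancel_mono U'.ι]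
        simp only [Category.assoc, X.homOfLE_ι, hl, hub₀]
      rw [← hcv, ← hc]
      simp only [← Category.assoc] at hfac ⊢
      rw [hfac]
  have hx' : (⟨x, hVU' hxV'⟩ : U') = X.homOfLE hVU' ⟨x, hxV'⟩ :=
    U'.ι.isOpenEmbedding.injective (by rw [← Scheme.Hom.comp_apply, X.homOfLE_ι]; rfl)
  rw [hx', ← Scheme.Hom.comp_apply, hcv, ← hlc, ← Scheme.Hom.comp_apply, key, hh₁c]

end Groth.Agent.RatMapExt
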