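import Mathlib.AlgebraicGeometry.ZariskisMainTheorem
import Mathlib.AlgebraicGeometry.Morphisms.Separated
import Mathlib.AlgebraicGeometry.Morphisms.FiniteType
import Mathlib.RingTheory.Localization.AsSubring
import Mathlib.RingTheory.IntegralClosure.IntegrallyClosed

/-! A rational map is defined at a normal point over which the closure of its graph has an isolated
point (birational Zariski main theorem). -/

set_option autoImplicit false

namespace Groth.Agent.RatMapExt

open CategoryTheory CategoryTheory.Limits AlgebraicGeometry TopologicalSpace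

universe u

section algebra

variable {A B K : Type u} [CommRing A] [IsDomain A] [CommRing B] [Algebra A B] [Algebra.FiniteType A B]
  [Field K] [Algebra A K] [IsFractionRing A K]

/-- Birational ZMT at a normal point. -/
theorem exists_away (φ : B →ₐ[A] K) (𝔭 : Ideal A) [𝔭.IsPrime]
    (S : Type u) [CommRing S] [Algebra A S] [IsLocalization.AtPrime S 𝔭] [IsIntegrallyClosed S]
    (𝔷 : Ideal B) [𝔷.IsPrime] (hker : RingHom.ker φ ≤ 𝔷) (h𝔷 : 𝔷.comap (algebraMap A B) = 𝔭)
    (huniq : ∀ Q : Ideal B, Q.IsPrime → RingHom.ker φ ≤ Q → Q.comap (algebraMap A B) = 𝔭 → Q = 𝔷) :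
    ∃ f ∉ 𝔭, ∀ b, ∃ (n : ℕ) (a : A), φ b * algebraMap A K f ^ n = algebraMap A K a := by
  classical
  -- integral elements of `K` over `A` have denominators outside `𝔭`
  letI : Algebra S K := (IsLocalization.lift (M := 𝔭.primeCompl) (g := algebraMap A K)
    fun y => isUnit_iff_ne_zero.mpr fun h => y.2 (by
      rw [show (y : A) = 0 from IsFractionRing.injective A K (h.trans (map_zero _).symm)]
      exact 𝔭.zero_mem)).toAlgebra
  haveI : IsScalarTower A S K := IsScalarTower.of_algebraMap_eq fun b => (IsLocalization.lift_eq _ b).symm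
  haveI : IsDomain S := IsLocalization.isDomain_of_atPrime S 𝔭
  haveI : IsFractionRing S K :=
    IsFractionRing.isFractionRing_of_isDomain_of_isLocalization 𝔭.primeCompl S K
  have hint : ∀ y : K, IsIntegral A y → ∃ a : A, ∃ s ∉ 𝔭, y * algebraMap A K s = algebraMap A K a := by
    intro y hy
    obtain ⟨c, rfl⟩ := (isIntegrallyClosed_iff (R := S) K).mp inferInstance (hy.tower_top (A := S))
    obtain ⟨a, ⟨s, hs⟩, rfl⟩ := IsLocalization.exists_mk'_eq 𝔭.primeCompl c
    refine ⟨a, s, hs, ?_⟩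
    rw [IsScalarTower.algebraMap_apply A S K s, IsScalarTower.algebraMap_apply A S K a, ← map_mul]
    exact congrArg _ (IsLocalization.mk'_spec S a ⟨s, hs⟩)
  let B' := φ.range
  let π : B →ₐ[A] B' := φ.rangeRestrict
  have hπ : Function.Surjective π := φ.rangeRestrict_surjective
  haveI : Algebra.FiniteType A B' := Algebra.FiniteType.of_surjective π hπ
  have hkerπ : RingHom.ker π = RingHom.ker φ := by
    ext b; simp [π, RingHom.mem_ker, Subtype.ext_iff]
  let 𝔷' : Ideal B' := 𝔷.map π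
  haveI : 𝔷'.IsPrime := Ideal.map_isPrime_of_surjective hπ (hkerπ.trans_le hker)
  have h𝔷' : 𝔷'.comap π = 𝔷 := by
    rw [Ideal.comap_map_of_surjective _ hπ, ← RingHom.ker_eq_comap_bot]
    exact sup_eq_left.mpr (hkerπ.trans_le hker)
  haveI : Algebra.QuasiFiniteAt A 𝔷' := by
    apply Algebra.QuasiFiniteAt.of_isOpen_singleton_fiber (⟨𝔷', inferInstance⟩ : PrimeSpectrum B')
    convert isOpen_univ
    refine Set.eq_univ_iff_forall.mpr fun ⟨⟨Q, hQ⟩, hQp⟩ => Subtype.ext (PrimeSpectrum.ext ?_)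
    show Q = 𝔷'
    haveI := hQ
    have hQp' : Q.comap (algebraMap A B') = 𝔷'.comap (algebraMap A B') :=
      congrArg PrimeSpectrum.asIdeal hQp
    have hcomp : ∀ J : Ideal B', (J.comap π).comap (algebraMap A B) = J.comap (algebraMap A B') := by
      intro J
      ext a
      simp only [Ideal.mem_comap, AlgHom.commutes]
    have hQe : Q.comap π = 𝔷 := by
      refine huniq _ (hQ.comap π) (hkerπ.symm.trans_le ?_) ?_
      · exact fun b hb => show π b ∈ Q from (RingHom.mem_ker.mp hb).symm ▸ Q.zero_mem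
      · rw [hcomp, hQp', ← hcomp, h𝔷', h𝔷]
    rw [← Ideal.map_comap_of_surjective π hπ Q, hQe]
  obtain ⟨r, hr, hrint, hx⟩ := Algebra.zariskisMainProperty_iff.mp
    (Algebra.ZariskisMainProperty.of_finiteType (R := A) 𝔷')
  obtain ⟨a, s, hs, has⟩ := hint (r : K) (hrint.map B'.val)
  have hmem : ∀ c : A, algebraMap A B' c ∈ 𝔷' ↔ c ∈ 𝔭 := fun c => by
    rw [← h𝔷, ← h𝔷', Ideal.mem_comap, Ideal.mem_comap, AlgHom.commutes]
  have ha : a ∉ 𝔭 := by
    intro ha
    have heq : r * algebraMap A B' s = algebraMap A B' a := Subtype.ext has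
    rcases (‹𝔷'.IsPrime›).mem_or_mem (heq ▸ (hmem a).mpr ha) with h | h
    exacts [hr h, hs ((hmem s).mp h)]
  obtain ⟨G, hG⟩ := (Algebra.FiniteType.out (R := A) (A := B))
  choose m hm using hx
  choose c t ht hct using fun g : B => hint ((r : K) ^ m (π g) * φ g) ((hm (π g)).map B'.val)
  refine ⟨a * ∏ g ∈ G, t g, 𝔭.primeCompl.mul_mem ha (prod_mem fun g _ => ht g), fun b => ?_⟩
  have hb : b ∈ Algebra.adjoin A (G : Set B) := hG ▸ Algebra.mem_top
  refine Algebra.adjoin_induction ?_ ?_ ?_ ?_ hb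
  · intro g hg
    refine ⟨m (π g) + 1, c g * s ^ m (π g) * (∏ g' ∈ G.erase g, t g') * a * (∏ g ∈ G, t g) ^ m (π g), ?_⟩
    rw [← Finset.mul_prod_erase G t hg]
    simp only [map_mul, map_pow, ← hct g, ← has, map_prod]
    ring
  · exact fun c => ⟨0, c, by simp⟩
  · rintro x y _ _ ⟨n, c, hc⟩ ⟨n', c', hc'⟩
    refine ⟨n + n', c * (a * ∏ g ∈ G, t g) ^ n' + c' * (a * ∏ g ∈ G, t g) ^ n, ?_⟩
    rw [map_add, map_add, map_mul (algebraMap A K) c, map_mul (algebraMap A K) c', map_pow, map_pow, ← hc, ← hc']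
    ring
  · rintro x y _ _ ⟨n, c, hc⟩ ⟨n', c', hc'⟩
    refine ⟨n + n', c * c', ?_⟩
    rw [map_mul φ, map_mul (algebraMap A K) c, ← hc, ← hc']
    ring

end algebra

variable {X Y S : Scheme.{u}}

set_option backward.isDefEq.respectTransparency false in
/-- A rational map is defined at a normal point if the closure of its graph has an isolated point in
the fibre over it. -/
theorem exists_extension_of_isolated (pX : X ⟶ S) (pY : Y ⟶ S) [LocallyOfFiniteType pY]
    [IsSeparated pY] (U : X.Opens) (h : (U : Scheme.{u}) ⟶ Y) (hh : U.ι ≫ pX = h ≫ pY)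
    {W : X.Opens} (hW : IsAffineOpen W) [IsDomain Γ(X, W)] (hUW : ((U ⊓ W : X.Opens) : Set X).Nonempty)
    (x : X) (hxW : x ∈ W) (hx : IsIntegrallyClosed (X.presheaf.stalk x))
    (z : ↥(pullback pX pY)) (hz : pullback.fst pX pY z = x)
    (hzΓ : z ∈ closure (Set.range (pullback.lift U.ι h hh)))
    (hiso : ∃ O : (pullback pX pY).Opens, (O : Set ↥(pullback pX pY)) ∩
      closure (Set.range (pullback.lift U.ι h hh)) ∩ (pullback.fst pX pY) ⁻¹' {x} = {z}) :
    ∃ (V : X.Opens) (v : (V : Scheme.{u}) ⟶ Y), x ∈ V ∧ V ≤ W ∧ v ≫ pY = V.ι ≫ pX ∧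
      X.homOfLE (inf_le_right : U ⊓ V ≤ V) ≫ v = X.homOfLE (inf_le_left : U ⊓ V ≤ U) ≫ h := by
  classical
  set g := pullback.lift U.ι h hh with hg
  obtain ⟨O, hO⟩ := hiso
  have hzO : z ∈ O := ((Set.ext_iff.mp hO z).mpr rfl).1.1
  let iA := hW.fromSpec
  let K := FractionRing Γ(X, W)
  let jK : Spec (CommRingCat.of K) ⟶ X :=
    Spec.map (CommRingCat.ofHom (algebraMap Γ(X, W) K)) ≫ iA
  have hdef : (default : Spec (CommRingCat.of K)).asIdeal = ⊥ :=
    (eq_bot_or_eq_top (default : Spec (CommRingCat.of K)).asIdeal).resolve_right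
      (default : Spec (CommRingCat.of K)).isPrime.ne_top
  let η : Spec Γ(X, W) := (Spec.map (CommRingCat.ofHom (algebraMap Γ(X, W) K))) default
  have hηbot : η.asIdeal = ⊥ := by
    show Ideal.comap (algebraMap Γ(X, W) K) (default : Spec (CommRingCat.of K)).asIdeal = ⊥
    rw [hdef]
    exact (RingHom.injective_iff_ker_eq_bot _).mp (IsFractionRing.injective Γ(X, W) K)
  have hηgen : ∀ w : Spec Γ(X, W), η ⤳ w := fun w => by
    rw [← PrimeSpectrum.le_iff_specializes]
    show η.asIdeal ≤ w.asIdeal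
    rw [hηbot]; exact bot_le
  have hWrange : Set.range iA = W := hW.range_fromSpec
  have hgen : ∀ w ∈ W, iA η ⤳ w := by
    intro w hw
    obtain ⟨w, rfl⟩ := hWrange.ge hw
    exact (hηgen w).map iA.continuous
  have hrangejK : Set.range jK ⊆ {iA η} := by
    rintro _ ⟨w, rfl⟩
    rw [Subsingleton.elim w default]
    rfl
  have hηU : iA η ∈ U := by
    obtain ⟨w, hwU, hwW⟩ := hUW
    exact (hgen w hwW).mem_open U.2 hwU
  let uK : Spec (CommRingCat.of K) ⟶ U := IsOpenImmersion.lift U.ι jK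
    (hrangejK.trans (by simpa using hηU))
  have huK : uK ≫ U.ι = jK := IsOpenImmersion.lift_fac _ _ _
  let gK := uK ≫ g
  let γ := gK default
  have hγΓ : ∀ w ∈ closure ({γ} : Set ↥(pullback pX pY)), w ∈ closure (Set.range g) := fun w hw =>
    closure_mono (Set.singleton_subset_iff.mpr (Set.mem_range_self _)) hw
  -- every point of `Γ` over `W` lies in the closure of `γ`
  have hclos : ∀ w, w ∈ closure (Set.range g) → pullback.fst pX pY w ∈ W → γ ⤳ w := by
    intro w hw hwW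
    have hmem : w ∈ closure (Set.range g ∩ (pullback.fst pX pY ⁻¹ᵁ W : (pullback pX pY).Opens)) :=
      (pullback.fst pX pY ⁻¹ᵁ W).2.inter_closure ⟨hwW, hw⟩ |> fun h' => by rwa [Set.inter_comm]
    rw [specializes_iff_mem_closure]
    refine closure_minimal ?_ isClosed_closure hmem
    rintro _ ⟨⟨y, rfl⟩, hyW⟩
    have hyW' : U.ι y ∈ W := by
      have : pullback.fst pX pY (g y) = U.ι y := by rw [← Scheme.Hom.comp_apply, pullback.lift_fst]
      exact this ▸ hyW
    have hsp : uK default ⤳ y := by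
      rw [← U.ι.isOpenEmbedding.isInducing.specializes_iff, ← Scheme.Hom.comp_apply, huK]
      exact hgen _ hyW'
    exact specializes_iff_mem_closure.mp (hsp.map g.continuous)
  have hzW : pullback.fst pX pY z ∈ W := hz ▸ hxW
  obtain ⟨Z, hZ, hzZ, hZle⟩ := exists_isAffineOpen_mem_and_subset (x := z)
    (U := O ⊓ pullback.fst pX pY ⁻¹ᵁ W) ⟨hzO, hzW⟩
  let iZ := hZ.fromSpec
  have hZrange : Set.range iZ = Z := hZ.range_fromSpec
  let ψ' : Spec Γ(pullback pX pY, Z) ⟶ Spec Γ(X, W) :=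
    IsOpenImmersion.lift iA (iZ ≫ pullback.fst pX pY) (by
      rintro _ ⟨w, rfl⟩
      rw [hWrange]
      exact (hZle (hZrange.le ⟨w, rfl⟩)).2)
  have hψ' : ψ' ≫ iA = iZ ≫ pullback.fst pX pY := IsOpenImmersion.lift_fac _ _ _
  obtain ⟨ψ, hψ⟩ := Spec.map_surjective ψ'
  letI := ψ.hom.toAlgebra
  haveI : Algebra.FiniteType Γ(X, W) Γ(pullback pX pY, Z) := by
    haveI : LocallyOfFiniteType (ψ' ≫ iA) := by rw [hψ']; infer_instance
    have hft : LocallyOfFiniteType (Spec.map ψ) := hψ ▸ locallyOfFiniteType_of_comp ψ' iA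
    exact (HasRingHomProperty.Spec_iff (P := @LocallyOfFiniteType)).mp hft
  obtain ⟨z', hz'⟩ := hZrange.ge hzZ
  have hγZ : γ ∈ Z := (hclos z hzΓ hzW).mem_open Z.2 hzZ
  let φ' : Spec (CommRingCat.of K) ⟶ Spec Γ(pullback pX pY, Z) := IsOpenImmersion.lift iZ gK (by
    rintro _ ⟨w, rfl⟩
    rw [hZrange, Subsingleton.elim w default]
    exact hγZ)
  have hφ' : φ' ≫ iZ = gK := IsOpenImmersion.lift_fac _ _ _
  obtain ⟨φr, hφr⟩ := Spec.map_surjective φ'
  have hcomm : ψ ≫ φr = CommRingCat.ofHom (algebraMap Γ(X, W) K) := by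
    apply Spec.map_injective
    rw [← cancel_mono iA, Spec.map_comp, Category.assoc, hψ, hψ', hφr, reassoc_of% hφ']
    show (uK ≫ g) ≫ pullback.fst pX pY = jK
    rw [Category.assoc, hg, pullback.lift_fst, huK]
  let φ : Γ(pullback pX pY, Z) →ₐ[Γ(X, W)] K :=
    { φr.hom with commutes' := fun a => congr(($hcomm).hom a) }
  have hkerφ : ∀ Q : Spec Γ(pullback pX pY, Z), RingHom.ker φ ≤ Q.asIdeal ↔ γ ⤳ iZ Q := by
    intro Q
    have h1 : γ = iZ (φ' default) := by rw [← Scheme.Hom.comp_apply, hφ']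
    rw [h1, iZ.isOpenEmbedding.isInducing.specializes_iff, ← PrimeSpectrum.le_iff_specializes, ← hφr]
    show _ ↔ Ideal.comap φr.hom (default : Spec (CommRingCat.of K)).asIdeal ≤ Q.asIdeal
    rw [hdef]
    rfl
  let p₀ := hW.primeIdealOf ⟨x, hxW⟩
  have hp₀ : iA p₀ = x := hW.fromSpec_primeIdealOf ⟨x, hxW⟩
  have hcomap : ∀ Q : Spec Γ(pullback pX pY, Z),
      Q.asIdeal.comap (algebraMap Γ(X, W) Γ(pullback pX pY, Z)) = p₀.asIdeal ↔
        pullback.fst pX pY (iZ Q) = x := by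
    intro Q
    rw [← Scheme.Hom.comp_apply, ← hψ', Scheme.Hom.comp_apply, ← hψ, ← hp₀,
      iA.isOpenEmbedding.injective.eq_iff, PrimeSpectrum.ext_iff]
    rfl
  letI := TopCat.Presheaf.algebra_section_stalk X.presheaf (⟨x, hxW⟩ : W)
  haveI : IsLocalization.AtPrime (X.presheaf.stalk x) p₀.asIdeal := hW.isLocalization_stalk ⟨x, hxW⟩
  obtain ⟨f, hf, hφf⟩ := exists_away φ p₀.asIdeal (X.presheaf.stalk x) z'.asIdeal
    ((hkerφ z').mpr (by rw [hz']; exact hclos z hzΓ hzW)) ((hcomap z').mpr (by rw [hz', hz]))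
    (fun Q hQ hQker hQp => by
      have h1 : iZ ⟨Q, hQ⟩ ∈ (O : Set ↥(pullback pX pY)) ∩ closure (Set.range g) ∩
          (pullback.fst pX pY) ⁻¹' {x} :=
        ⟨⟨(hZle (hZrange.le ⟨_, rfl⟩)).1,
          hγΓ _ (specializes_iff_mem_closure.mp ((hkerφ ⟨Q, hQ⟩).mp hQker))⟩, (hcomap ⟨Q, hQ⟩).mp hQp⟩
      rw [hO, Set.mem_singleton_iff] at h1
      have h2 : iZ ⟨Q, hQ⟩ = iZ z' := by rw [h1, hz']
      exact congrArg PrimeSpectrum.asIdeal (iZ.isOpenEmbedding.injective h2))
  have hf0 : f ≠ 0 := fun h0 => hf (h0 ▸ p₀.asIdeal.zero_mem)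
  have hfle : Submonoid.powers f ≤ nonZeroDivisors Γ(X, W) :=
    Submonoid.powers_le.mpr (mem_nonZeroDivisors_of_ne_zero hf0)
  let Af := Localization.subalgebra.ofField K (Submonoid.powers f) hfle
  haveI : IsLocalization.Away f Af := Localization.subalgebra.isLocalization_ofField K _ hfle
  have hfK : algebraMap Γ(X, W) K f ≠ 0 := fun h0 =>
    hf0 (IsFractionRing.injective Γ(X, W) K (h0.trans (map_zero _).symm))
  let θ : Γ(pullback pX pY, Z) →ₐ[Γ(X, W)] Af := φ.codRestrict Af fun b => by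
    obtain ⟨n, a, hna⟩ := hφf b
    refine ⟨a, f ^ n, ⟨n, rfl⟩, ?_⟩
    rw [map_pow, ← hna, mul_assoc, mul_inv_cancel₀ (pow_ne_zero n hfK), mul_one]
  let j : Spec (CommRingCat.of Af) ⟶ X :=
    Spec.map (CommRingCat.ofHom (algebraMap Γ(X, W) Af)) ≫ iA
  haveI : IsOpenImmersion (Spec.map (CommRingCat.ofHom (algebraMap Γ(X, W) Af))) :=
    .of_isLocalization f
  let v0 : Spec (CommRingCat.of Af) ⟶ Y :=
    Spec.map (CommRingCat.ofHom θ.toRingHom) ≫ iZ ≫ pullback.snd pX pY
  have hθ : Spec.map (CommRingCat.ofHom θ.toRingHom) ≫ iZ ≫ pullback.fst pX pY = j := by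
    rw [← hψ', ← hψ, ← Category.assoc, ← Spec.map_comp]
    congr 2
    ext a
    exact congrArg Subtype.val (θ.commutes a)
  have hv0 : v0 ≫ pY = j ≫ pX := by
    rw [← hθ]
    simp only [v0, Category.assoc, pullback.condition]
  have hxj : x ∈ j.opensRange := by
    have : p₀ ∈ Set.range (PrimeSpectrum.comap (algebraMap Γ(X, W) Af)) := by
      rw [PrimeSpectrum.localization_away_comap_range Af f]
      exact hf
    obtain ⟨q, hq⟩ := this
    refine ⟨q, ?_⟩
    show iA _ = x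
    rw [← hp₀]
    exact congrArg iA hq
  have hVW : j.opensRange ≤ W := by
    rintro _ ⟨q, rfl⟩
    exact hWrange.le ⟨_, rfl⟩
  refine ⟨j.opensRange, j.isoOpensRange.inv ≫ v0, hxj, hVW, ?_, ?_⟩
  · rw [Category.assoc, hv0, Scheme.Hom.isoOpensRange_inv_comp_assoc]
  -- agreement at the generic point
  let kA : Spec (CommRingCat.of K) ⟶ Spec (CommRingCat.of Af) :=
    Spec.map (CommRingCat.ofHom Af.val.toRingHom)
  have hkA : kA ≫ j = jK := by
    simp only [kA, j, jK, ← Category.assoc, ← Spec.map_comp]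
    rfl
  have hηV : iA η ∈ (U ⊓ j.opensRange : X.Opens) :=
    ⟨hηU, kA default, by rw [← Scheme.Hom.comp_apply, hkA]; rfl⟩
  let d : Spec (CommRingCat.of K) ⟶ (U ⊓ j.opensRange : X.Opens) :=
    IsOpenImmersion.lift (Scheme.Opens.ι _) jK (hrangejK.trans (by simpa using hηV))
  have hd : d ≫ Scheme.Opens.ι _ = jK := IsOpenImmersion.lift_fac _ _ _
  haveI : IsDominant d := ⟨fun y => by
    have hsp : d default ⤳ y := by
      rw [← (U ⊓ j.opensRange).ι.isOpenEmbedding.isInducing.specializes_iff, ← Scheme.Hom.comp_apply, hd]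
      exact hgen _ (hVW y.2.2)
    exact closure_mono (Set.singleton_subset_iff.mpr (Set.mem_range_self _)) hsp.mem_closure⟩
  haveI : IsReduced (Spec (CommRingCat.of Af)) := inferInstance
  haveI : IsReduced (j.opensRange : Scheme.{u}) := isReduced_of_isOpenImmersion j.isoOpensRange.inv
  haveI : IsReduced ((U ⊓ j.opensRange : X.Opens) : Scheme.{u}) :=
    isReduced_of_isOpenImmersion (X.homOfLE (inf_le_right : U ⊓ j.opensRange ≤ j.opensRange))
  refine ext_of_isDominant_of_isSeparated pY ?_ d ?_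
  · simp only [Category.assoc, hv0, ← hh, Scheme.Hom.isoOpensRange_inv_comp_assoc,
      Scheme.homOfLE_ι_assoc]
  · have h1 : d ≫ X.homOfLE (inf_le_left : U ⊓ j.opensRange ≤ U) = uK := by
      rw [← cancel_mono U.ι, Category.assoc, Scheme.homOfLE_ι, hd, huK]
    have h2 : d ≫ X.homOfLE (inf_le_right : U ⊓ j.opensRange ≤ j.opensRange) ≫ j.isoOpensRange.inv = kA := by
      rw [← cancel_mono j, Category.assoc, Category.assoc, Scheme.Hom.isoOpensRange_inv_comp,
        Scheme.homOfLE_ι, hd, hkA]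
    rw [reassoc_of% h1, reassoc_of% h2]
    show kA ≫ v0 = uK ≫ h
    have h3 : kA ≫ Spec.map (CommRingCat.ofHom θ.toRingHom) = φ' := by
      rw [← hφr, ← Spec.map_comp]
      rfl
    simp only [v0]
    rw [reassoc_of% h3, reassoc_of% hφ']
    show (uK ≫ g) ≫ pullback.snd pX pY = uK ≫ h
    rw [Category.assoc, hg, pullback.lift_snd]

end Groth.Agent.RatMapExt
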